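import Cfsg.Agent.Lib.Helper73.SPO.HC
import Cfsg.Agent.S0183

/-! Ladder SPO (S3421), rung CN. -/

set_option autoImplicit false

namespace Cfsg.Agent.Lib.Helper73.SPO

variable {G : Type*} [Group G] [Finite G] {p q : ℕ}

theorem cn_isCN (H : Hyp G p q) (X : Subgroup G) (hodd : Odd (Nat.card X)) :
    Cfsg.IsCNGroup X := by
  intro g hg
  have : Fact p.Prime := ⟨H.hp⟩
  have hn1 : orderOf g ≠ 1 := fun h => hg (orderOf_eq_one_iff.1 h)
  obtain ⟨r, hr, hrn⟩ := Nat.exists_prime_and_dvd hn1
  have hn0 : orderOf g ≠ 0 := (orderOf_pos g).ne'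
  obtain ⟨k, hk⟩ := hrn
  have hk0 : k ≠ 0 := by
    rintro rfl
    rw [mul_zero] at hk
    exact hn0 hk
  have hg0 : orderOf (g ^ k) = r := by
    rw [orderOf_pow_of_dvd hk0 ⟨r, by rw [hk]; ring⟩, hk]
    exact Nat.mul_div_cancel _ (Nat.pos_of_ne_zero hk0)
  have hg0' : orderOf ((g ^ k : X) : G) = r := by rw [Subgroup.orderOf_coe, hg0]
  have hr2 : r ≠ 2 := by
    rintro rfl
    have h1 : 2 ∣ Nat.card X := (Dvd.intro k hk.symm).trans (orderOf_dvd_natCard g)
    exact (Nat.not_even_iff_odd.2 hodd) (even_iff_two_dvd.2 h1)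
  have hcomm : ∀ c ∈ Subgroup.centralizer ({g} : Set X), Commute ((g ^ k : X) : G) (c : G) := by
    intro c hc
    have h1 : g * c = c * g := Subgroup.mem_centralizer_iff.1 hc g (Set.mem_singleton g)
    have h2 : Commute g c := h1
    have h3 : Commute (g ^ k) c := h2.pow_left k
    have h4 := congrArg (Subtype.val) h3.eq
    exact h4
  by_cases hrp : r = p
  · have hP : IsPGroup p (Subgroup.centralizer ({g} : Set X)) := by
      intro c
      refine ⟨1, ?_⟩
      have h1 := H.cpp (hrp ▸ hg0') (hcomm c.1 c.2)
      apply Subtype.ext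
      apply Subtype.ext
      simpa using h1
    exact hP.isNilpotent
  · have hinj : Function.Injective
        ((X.subtype).comp (Subgroup.centralizer ({g} : Set X)).subtype) :=
      X.subtype_injective.comp (Subgroup.subtype_injective _)
    have hU : ((Subgroup.centralizer ({g} : Set X)).map X.subtype) ≤
        Subgroup.centralizer ({((g ^ k : X) : G)} : Set G) := by
      rintro _ ⟨c, hc, rfl⟩
      rw [Subgroup.mem_centralizer_iff]
      intro h hh
      rw [Set.mem_singleton_iff] at hh
      subst hh
      exact (hcomm c hc).eq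
    have hcard : Nat.card ((Subgroup.centralizer ({g} : Set X)).map X.subtype) =
        Nat.card (Subgroup.centralizer ({g} : Set X)) :=
      Subgroup.card_map_of_injective X.subtype_injective
    have hoddU : Odd (Nat.card ((Subgroup.centralizer ({g} : Set X)).map X.subtype)) := by
      rw [hcard]
      exact Odd.of_dvd_nat hodd (Subgroup.card_subgroup_dvd_card _)
    have hcyc := hc H hr hrp hr2 hg0' _ hU hoddU
    have e := (Subgroup.centralizer ({g} : Set X)).equivMapOfInjective X.subtype
      X.subtype_injective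
    have hcyc2 : IsCyclic (Subgroup.centralizer ({g} : Set X)) :=
      isCyclic_of_injective e.toMonoidHom e.injective
    let _ : CommGroup (Subgroup.centralizer ({g} : Set X)) := IsCyclic.commGroup
    exact CommGroup.isNilpotent

/- CN -/
theorem solvable_of_odd (H : Hyp G p q) (X : Subgroup G) (hodd : Odd (Nat.card X)) :
    Group.IsSolvable X := Cfsg.Agent.S0183.result hodd (cn_isCN H X hodd)

end Cfsg.Agent.Lib.Helper73.SPO
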