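import Cfsg.Agent.Lib.Helper73.SPO.TI
import Cfsg.Agent.Lib.Helper73.SPO.CNT1

/-!
# Ladder SPO, rung CNT2 (helper72): the number of Sylow `p`-subgroups is `q + 1`
-/

set_option autoImplicit false

namespace Cfsg.Agent.Lib.Helper73.SPO

/-- class formula: a common divisor of all orbit lengths divides the number of points -/
theorem CNT2_dvd {M X : Type*} [Group M] [MulAction M X] [Finite X] (k : ℕ)
    (h : ∀ x : X, k ∣ (MulAction.stabilizer M x).index) : k ∣ Nat.card X := by
  classical
  have := Fintype.ofFinite (MulAction.orbitRel.Quotient M X)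
  by_cases hfin : ∀ ω : MulAction.orbitRel.Quotient M X, Finite (M ⧸ MulAction.stabilizer M ω.out)
  · rw [Nat.card_congr (MulAction.selfEquivSigmaOrbitsQuotientStabilizer M X), Nat.card_sigma]
    exact Finset.dvd_sum (fun ω _ => h ω.out)
  · exfalso
    apply hfin
    intro ω
    exact Finite.of_equiv _ (MulAction.orbitEquivQuotientStabilizer M ω.out)

theorem CNT2_card_ne {X : Type*} [Finite X] (a : X) :
    Nat.card {x : X // x ≠ a} + 1 = Nat.card X := by
  classical
  have := Fintype.ofFinite X
  have h1 : Fintype.card {x : X // ¬ (x = a)} = Fintype.card X - Fintype.card {x : X // x = a} :=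
    Fintype.card_subtype_compl _
  rw [Fintype.card_subtype_eq] at h1
  have h2 : 0 < Fintype.card X := Fintype.card_pos_iff.2 ⟨a⟩
  rw [Nat.card_eq_fintype_card, Nat.card_eq_fintype_card]
  have h3 : Fintype.card {x : X // x ≠ a} = Fintype.card {x : X // ¬ (x = a)} :=
    Fintype.card_congr (Equiv.refl _)
  omega

theorem CNT2_arith (q k n c m : ℕ) (hq5 : 5 ≤ q) (hk : 0 < k) (h1 : 2 * (k * n) = (q - 1) * (q + 1))
    (h2 : q - 1 = k * c) (h3 : n = q * m + 1) : n = q + 1 := by
  have h4 : 2 * n = c * (q + 1) := by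
    rw [h2] at h1
    have : k * (2 * n) = k * (c * (q + 1)) := by
      calc k * (2 * n) = 2 * (k * n) := by ring
        _ = k * c * (q + 1) := h1
        _ = k * (c * (q + 1)) := by ring
    exact Nat.eq_of_mul_eq_mul_left hk this
  have hc1 : 1 ≤ c := by
    rcases Nat.eq_zero_or_pos c with h | h
    · rw [h] at h2; omega
    · exact h
  have hcq : c ≤ q - 1 := by
    rw [h2]; exact Nat.le_mul_of_pos_left c hk
  have h5 : 2 * (q * m) + 2 = c * q + c := by
    rw [h3] at h4
    calc 2 * (q * m) + 2 = 2 * (q * m + 1) := by ring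
      _ = c * (q + 1) := h4
      _ = c * q + c := by ring
  have hc2 : c = 2 := by
    rcases Nat.lt_or_ge c 2 with hlt | hge
    · have hc : c = 1 := by omega
      subst hc
      rcases Nat.eq_zero_or_pos m with hm | hm
      · subst hm; omega
      · have : q ≤ q * m := Nat.le_mul_of_pos_right q hm
        omega
    · have h6 : q ∣ c - 2 := by
        have h7 : (c - 2) + c * q = q * (2 * m) := by
          have : q * (2 * m) = 2 * (q * m) := by ring
          omega
        have h8 : q ∣ (c - 2) + c * q := by rw [h7]; exact dvd_mul_right _ _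
        exact (Nat.dvd_add_left (dvd_mul_left q c)).1 h8
      have h9 : c - 2 = 0 := Nat.eq_zero_of_dvd_of_lt h6 (by omega)
      omega
  subst hc2
  omega

variable {G : Type*} [Group G] [Finite G] {p q : ℕ}

/-- `n_p ≡ 1 mod q` -/
theorem CNT2_modq [Fact p.Prime] (H : Hyp G p q) (P : Sylow p G) :
    q ∣ Nat.card {P' : Sylow p G // P' ≠ P} := by
  let S : SubMulAction ↥(P : Subgroup G) (Sylow p G) :=
    { carrier := {P' | P' ≠ P}
      smul_mem' := by
        intro u P' hP' h
        apply hP'
        have h1 : (u : G) • P' = P := h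
        have h2 : ((u : G)⁻¹) • P = P :=
          Sylow.smul_eq_iff_mem_normalizer.2 (Subgroup.le_normalizer (Subgroup.inv_mem _ u.2))
        calc P' = ((u : G)⁻¹) • ((u : G) • P') := by rw [smul_smul, inv_mul_cancel, one_smul]
          _ = ((u : G)⁻¹) • P := by rw [h1]
          _ = P := h2 }
  have key : Nat.card (P : Subgroup G) ∣ Nat.card S := by
    apply CNT2_dvd (M := ↥(P : Subgroup G))
    intro x
    have hx : (x : Sylow p G) ≠ P := x.2
    have hbot : MulAction.stabilizer ↥(P : Subgroup G) x = ⊥ := by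
      rw [SubMulAction.stabilizer_of_subMul, eq_bot_iff]
      intro u hu
      rw [Subgroup.mem_bot]
      by_contra hu1
      have h1 : (u : G) • (x : Sylow p G) = x := hu
      have h2 : (u : G) ∈ Subgroup.normalizer (((x : Sylow p G) : Subgroup G) : Set G) :=
        Sylow.smul_eq_iff_mem_normalizer.1 h1
      have h3 : (u : G) ∈ (P : Subgroup G) ⊓ ((x : Sylow p G) : Subgroup G) := by
        rw [← P.2.inf_normalizer_sylow]
        exact ⟨u.2, h2⟩
      apply hx
      symm
      apply ti H
      intro hb
      rw [hb, Subgroup.mem_bot] at h3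
      exact hu1 (Subtype.ext h3)
    rw [hbot, Subgroup.index_bot]
  rw [card_sylow H P] at key
  exact key

/-- the `p'`-part of `|N(P)|` divides `q - 1` -/
theorem CNT2_dvd_sub [Fact p.Prime] (H : Hyp G p q) (P : Sylow p G) (k : ℕ)
    (hk : Nat.card (Subgroup.normalizer ((P : Subgroup G) : Set G)) = q * k)
    (hkp : Nat.Coprime k p) : k ∣ Nat.card {u : (P : Subgroup G) // u ≠ 1} := by
  let S : SubMulAction ↥(Subgroup.normalizer ((P : Subgroup G) : Set G)) ↥(P : Subgroup G) :=
    { carrier := {u | u ≠ 1}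
      smul_mem' := by
        intro n u hu h
        apply hu
        have h1 : n⁻¹ • (n • u) = n⁻¹ • (1 : ↥(P : Subgroup G)) := by rw [h]
        rwa [inv_smul_smul, smul_one] at h1 }
  have key : k ∣ Nat.card S := by
    apply CNT2_dvd (M := ↥(Subgroup.normalizer ((P : Subgroup G) : Set G)))
    intro x
    have hx : (x : ↥(P : Subgroup G)) ≠ 1 := x.2
    rw [SubMulAction.stabilizer_of_subMul]
    set St := MulAction.stabilizer ↥(Subgroup.normalizer ((P : Subgroup G) : Set G))
      (x : ↥(P : Subgroup G)) with hSt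
    have hxo : orderOf (((x : ↥(P : Subgroup G)) : G)) = p := by
      apply orderOf_eq_prime (H.pow_p_of_mem P.2 (x : ↥(P : Subgroup G)).2)
      intro h
      exact hx (Subtype.ext h)
    have hpg : IsPGroup p St := by
      intro n
      refine ⟨1, ?_⟩
      have h1 : (n : ↥(Subgroup.normalizer ((P : Subgroup G) : Set G))) • (x : ↥(P : Subgroup G))
          = x := n.2
      have h2 : ((n : ↥(Subgroup.normalizer ((P : Subgroup G) : Set G))) : G)
          * ((x : ↥(P : Subgroup G)) : G)
          * ((n : ↥(Subgroup.normalizer ((P : Subgroup G) : Set G))) : G)⁻¹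
          = ((x : ↥(P : Subgroup G)) : G) := congrArg Subtype.val h1
      have hcomm : Commute ((x : ↥(P : Subgroup G)) : G)
          ((n : ↥(Subgroup.normalizer ((P : Subgroup G) : Set G))) : G) := by
        show _ * _ = _ * _
        nth_rewrite 1 [← h2]
        group
      have h3 := H.cpp hxo hcomm
      apply Subtype.ext
      apply Subtype.ext
      simpa using h3
    obtain ⟨j, hj⟩ := (IsPGroup.iff_card (p := p)).1 hpg
    have h4 := St.card_mul_index
    rw [hj, hk] at h4
    have h5 : k ∣ p ^ j * St.index := by rw [h4]; exact dvd_mul_left _ _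
    exact (Nat.Coprime.pow_right j hkp).dvd_of_dvd_mul_left h5
  exact key

/-- CNT2 -/
theorem card_quot [Fact p.Prime] (H : Hyp G p q) (P : Sylow p G) :
    Nat.card (G ⧸ Subgroup.normalizer ((P : Subgroup G) : Set G)) = q + 1 := by
  set N := Subgroup.normalizer ((P : Subgroup G) : Set G) with hN
  have hq5 := H.hq5
  have hPc := card_sylow H P
  obtain ⟨k, hk⟩ : q ∣ Nat.card N := by
    rw [← hPc]; exact Subgroup.card_dvd_of_le Subgroup.le_normalizer
  have hidx := N.card_mul_index
  have hcard := H.card'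
  have hkn : k * N.index = 2 * ((q - 1) / 2) * ((q + 1) / 2) := by
    rw [hk, hcard, mul_assoc] at hidx
    exact Nat.eq_of_mul_eq_mul_left (by omega) hidx
  have hk0 : 0 < k := by
    rcases Nat.eq_zero_or_pos k with h | h
    · rw [h, mul_zero] at hk
      exact absurd hk Nat.card_pos.ne'
    · exact h
  have hkp : Nat.Coprime k p := by
    rw [Nat.coprime_comm, Nat.Prime.coprime_iff_not_dvd H.hp]
    intro h
    have h1 : p ∣ 2 * ((q - 1) / 2) * ((q + 1) / 2) := by
      rw [← hkn]; exact Dvd.dvd.mul_right h _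
    rcases (Nat.Prime.dvd_mul H.hp).1 h1 with h2 | h2
    · rw [H.two_mul_a] at h2
      exact H.not_dvd_sub h2
    · exact H.not_dvd_b h2
  obtain ⟨c, hc⟩ := CNT2_dvd_sub H P k hk hkp
  obtain ⟨m, hm⟩ := CNT2_modq H P
  have h1 := CNT2_card_ne (1 : (P : Subgroup G))
  have h2 := CNT2_card_ne P
  rw [hc, hPc] at h1
  rw [hm, Sylow.card_eq_index_normalizer P] at h2
  show N.index = q + 1
  apply CNT2_arith q k N.index c m hq5 hk0 _ (by omega) h2.symm
  rw [hkn]
  have ha := H.two_mul_a
  have hb := H.two_mul_b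
  calc 2 * (2 * ((q - 1) / 2) * ((q + 1) / 2)) = (2 * ((q - 1) / 2)) * (2 * ((q + 1) / 2)) := by ring
    _ = (q - 1) * (q + 1) := by rw [ha, hb]

end Cfsg.Agent.Lib.Helper73.SPO
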