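import Cfsg.Agent.Lib.Helper73.SPO.TI

/-!
# Ladder SPO (S3421), rung TIN.
-/

set_option autoImplicit false

namespace Cfsg.Agent.Lib.Helper73.SPO

open scoped Pointwise

variable {G : Type*} [Group G] [Finite G] {p q : ℕ}

/-- A `p`-element of `N(P)` lies in `P`. -/
theorem tin_mem [Fact p.Prime] (P : Sylow p G) {x : G} {k : ℕ} (hx : x ^ p ^ k = 1)
    (hxN : x ∈ Subgroup.normalizer ((P : Subgroup G) : Set G)) : x ∈ (P : Subgroup G) := by
  have hz : IsPGroup p (Subgroup.zpowers x) := by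
    rw [IsPGroup.iff_card]
    obtain ⟨j, _, hj⟩ := (Nat.dvd_prime_pow (Fact.out : p.Prime)).mp (orderOf_dvd_of_pow_eq_one hx)
    exact ⟨j, by rw [Nat.card_zpowers, hj]⟩
  have hle : Subgroup.zpowers x ≤ Subgroup.normalizer ((P : Subgroup G) : Set G) := by
    rw [Subgroup.zpowers_le]; exact hxN
  have := hz.inf_normalizer_sylow P
  have h2 : x ∈ Subgroup.zpowers x ⊓ Subgroup.normalizer ((P : Subgroup G) : Set G) :=
    ⟨Subgroup.mem_zpowers x, hxN⟩
  have h3 : x ∈ Subgroup.zpowers x ⊓ (P : Subgroup G) := by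
    rw [← this]; exact h2
  exact h3.2

theorem tin [Fact p.Prime] (H : Hyp G p q) (P : Sylow p G) :
    ∀ a ∈ (P : Subgroup G), a ≠ 1 → ∀ g : G,
      g * a * g⁻¹ ∈ Subgroup.normalizer ((P : Subgroup G) : Set G) →
      g ∈ Subgroup.normalizer ((P : Subgroup G) : Set G) := by
  intro a haP ha1 g hg
  have hap : a ^ p = 1 := H.pow_p_of_mem P.2 haP
  have hc : (g * a * g⁻¹) ^ p ^ 1 = 1 := by
    rw [pow_one, conj_pow, hap, mul_one, mul_inv_cancel]
  have hmem : g * a * g⁻¹ ∈ (P : Subgroup G) := tin_mem P hc hg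
  -- `g a g⁻¹ ∈ P ⊓ g • P`
  have hmem2 : g * a * g⁻¹ ∈ ((g • P : Sylow p G) : Subgroup G) := by
    rw [Sylow.coe_subgroup_smul]
    exact ⟨a, haP, rfl⟩
  have hne : ((g • P : Sylow p G) : Subgroup G) ⊓ (P : Subgroup G) ≠ ⊥ := by
    intro hb
    have : g * a * g⁻¹ ∈ (⊥ : Subgroup G) := by rw [← hb]; exact ⟨hmem2, hmem⟩
    rw [Subgroup.mem_bot] at this
    apply ha1
    have h3 : a = g⁻¹ * (g * a * g⁻¹) * g := by group
    rw [h3, this]; group
  have heq : g • P = P := ti H _ _ hne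
  exact Sylow.smul_eq_iff_mem_normalizer.mp heq

end Cfsg.Agent.Lib.Helper73.SPO
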