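import Cfsg.Agent.Lib.Helper73.SPO.TP
import Cfsg.Agent.Lib.Helper73.SPO.TIN
import Cfsg.Agent.Lib.Helper73.SPO.NRNa
import Cfsg.Agent.Lib.Helper71.BSWQdreg
import Cfsg.Agent.Lib.Helper73.ZassMain
import Cfsg.Agent.S0738

/-!
# Ladder SPO (S3421): assembly for `q` odd.
-/

set_option autoImplicit false

namespace Cfsg.Agent.Lib.Helper73.SPO

variable {G : Type*} [Group G] [Finite G] {p q : ℕ}

theorem zass [Fact p.Prime] (H : Hyp G p q) (P : Sylow p G)
    (hreg : ∀ y z : G ⧸ Subgroup.normalizer ((P : Subgroup G) : Set G),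
      y ≠ ((1 : G) : G ⧸ Subgroup.normalizer ((P : Subgroup G) : Set G)) →
      z ≠ ((1 : G) : G ⧸ Subgroup.normalizer ((P : Subgroup G) : Set G)) →
      ∃! u : (P : Subgroup G), (u : G) • y = z)
    (h2t : MulAction.IsMultiplyPretransitive G
      (G ⧸ Subgroup.normalizer ((P : Subgroup G) : Set G)) 2)
    (o : G ⧸ Subgroup.normalizer ((P : Subgroup G) : Set G))
    (ho : o ≠ ((1 : G) : G ⧸ Subgroup.normalizer ((P : Subgroup G) : Set G))) :
    Cfsg.IsZassenhausGroup G (G ⧸ Subgroup.normalizer ((P : Subgroup G) : Set G)) := by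
  classical
  obtain ⟨hD, h3⟩ := two_point H P hreg o ho
  have hq5 := H.hq5
  set x : G ⧸ Subgroup.normalizer ((P : Subgroup G) : Set G) :=
    ((1 : G) : G ⧸ Subgroup.normalizer ((P : Subgroup G) : Set G)) with hx
  set D : Subgroup G := MulAction.stabilizer G x ⊓ MulAction.stabilizer G o with hDdef
  have h2 : ∀ {a b c d : G ⧸ Subgroup.normalizer ((P : Subgroup G) : Set G)}, a ≠ b → c ≠ d →
      ∃ g : G, g • a = c ∧ g • b = d := MulAction.is_two_pretransitive_iff.mp h2t
  obtain ⟨d1, hd1D, hd11⟩ : ∃ d ∈ D, d ≠ 1 := by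
    by_contra hcon
    push Not at hcon
    have hb : D = ⊥ := (Subgroup.eq_bot_iff_forall D).mpr hcon
    rw [hb, Subgroup.card_bot] at hD
    omega
  have hd1st : d1 • x = x ∧ d1 • o = o := by
    rw [hDdef, Subgroup.mem_inf, MulAction.mem_stabilizer_iff, MulAction.mem_stabilizer_iff]
      at hd1D
    exact hd1D
  have h3p : ∀ g : G, ∀ a b c : G ⧸ Subgroup.normalizer ((P : Subgroup G) : Set G),
      a ≠ b → b ≠ c → a ≠ c → g • a = a → g • b = b → g • c = c → g = 1 := by
    intro g a b c hab hbc hac hga hgb hgc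
    obtain ⟨h, hha, hhb⟩ := h2 hab ho.symm
    have h4 : h * g * h⁻¹ ∈ D := by
      rw [hDdef, Subgroup.mem_inf, MulAction.mem_stabilizer_iff, MulAction.mem_stabilizer_iff]
      constructor
      · rw [mul_smul, mul_smul, ← hha, inv_smul_smul, hga]
      · rw [mul_smul, mul_smul, ← hhb, inv_smul_smul, hgb]
    have h5 : h * g * h⁻¹ = 1 := by
      apply h3 _ h4 (h • c)
      · rw [← hha]
        intro hh
        exact hac (smul_left_cancel h hh).symm
      · rw [← hhb]
        intro hh
        exact hbc (smul_left_cancel h hh).symm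
      · rw [mul_smul, mul_smul, inv_smul_smul, hgc]
    calc g = h⁻¹ * (h * g * h⁻¹) * h := by group
      _ = 1 := by rw [h5]; group
  have hcq := tp_card_quot H P
  obtain ⟨z, hzx, hzo⟩ : ∃ z : G ⧸ Subgroup.normalizer ((P : Subgroup G) : Set G),
      z ≠ x ∧ z ≠ o := by
    by_contra hcon
    push Not at hcon
    haveI := Fintype.ofFinite (G ⧸ Subgroup.normalizer ((P : Subgroup G) : Set G))
    have hsub : (Finset.univ : Finset (G ⧸ Subgroup.normalizer ((P : Subgroup G) : Set G))) ⊆
        {x, o} := by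
      intro z _
      by_cases hz : z = x
      · simp [hz]
      · simp [hcon z hz]
    have h1 := Finset.card_le_card hsub
    have h4 : ({x, o} : Finset (G ⧸ Subgroup.normalizer ((P : Subgroup G) : Set G))).card ≤ 2 :=
      Finset.card_le_two
    rw [Finset.card_univ, ← Nat.card_eq_fintype_card, hcq] at h1
    omega
  refine ⟨?_, h2t, h3p, ⟨d1, hd11, x, o, ho.symm, hd1st.1, hd1st.2⟩, ?_⟩
  · constructor
    intro g g' hgg
    have h1 : ∀ a : G ⧸ Subgroup.normalizer ((P : Subgroup G) : Set G), (g'⁻¹ * g) • a = a := by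
      intro a
      rw [mul_smul, hgg a, inv_smul_smul]
    have h4 := h3p (g'⁻¹ * g) x o z ho.symm hzo.symm hzx.symm (h1 x) (h1 o) (h1 z)
    exact (inv_mul_eq_one.mp h4).symm
  · intro E hE htr
    exact no_regular_of H P hcq E hE htr

theorem odd_main (H : Hyp G p q) :
    ∃ (K : Type) (_ : Field K) (_ : Fintype K), Fintype.card K = q ∧ (2 : K) ≠ 0 ∧
      Nonempty (G ≃* Matrix.ProjectiveSpecialLinearGroup (Fin 2) K) := by
  classical
  haveI : Fact p.Prime := ⟨H.hp⟩
  have hq5 := H.hq5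
  let P : Sylow p G := default
  have hcP := card_sylow H P
  have hcq := tp_card_quot H P
  have hcq' : Nat.card (G ⧸ Subgroup.normalizer ((P : Subgroup G) : Set G)) =
      Nat.card (P : Subgroup G) + 1 := by rw [hcq, hcP]
  have hTI := tin H P
  have hreg := Cfsg.Agent.Lib.Helper71.BSW.qd_reg (P : Subgroup G) hcq' hTI
  have h2t := Cfsg.Agent.Lib.Helper71.BSW.qd_two_trans (P : Subgroup G) hcq' hreg
  obtain ⟨o, ho⟩ : ∃ o : G ⧸ Subgroup.normalizer ((P : Subgroup G) : Set G),
      o ≠ ((1 : G) : G ⧸ Subgroup.normalizer ((P : Subgroup G) : Set G)) := by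
    by_contra hcon
    push Not at hcon
    have : Subsingleton (G ⧸ Subgroup.normalizer ((P : Subgroup G) : Set G)) :=
      ⟨fun a b => (hcon a).trans (hcon b).symm⟩
    have h1 := Finite.card_le_one_iff_subsingleton.mpr this
    omega
  have hZ := zass H P hreg h2t o ho
  obtain ⟨hD, -⟩ := two_point H P hreg o ho
  have hst : MulAction.stabilizer G
      ((1 : G) : G ⧸ Subgroup.normalizer ((P : Subgroup G) : Set G)) =
      Subgroup.normalizer ((P : Subgroup G) : Set G) := MulAction.stabilizer_quotient _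
  have hFle : (P : Subgroup G) ≤ MulAction.stabilizer G
      ((1 : G) : G ⧸ Subgroup.normalizer ((P : Subgroup G) : Set G)) := by
    rw [hst]; exact Subgroup.le_normalizer
  have hFn : ((P : Subgroup G).subgroupOf (MulAction.stabilizer G
      ((1 : G) : G ⧸ Subgroup.normalizer ((P : Subgroup G) : Set G)))).Normal := by
    rw [hst]; exact Subgroup.normal_in_normalizer
  haveI := Fintype.ofFinite (G ⧸ Subgroup.normalizer ((P : Subgroup G) : Set G))
  have hab := (Cfsg.Agent.S0738.result hZ ho.symm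
    (by rw [← Nat.card_eq_fintype_card, hcq]; omega) (P : Subgroup G) hFle hFn hreg).1
  have hFab : ∀ u ∈ (P : Subgroup G), ∀ v ∈ (P : Subgroup G), u * v = v * u := by
    intro u hu v hv
    have := hab.is_comm.comm ⟨u, hu⟩ ⟨v, hv⟩
    exact congrArg Subtype.val this
  obtain ⟨K, iK, iF, hK, hK2, hiso⟩ := Cfsg.Agent.Lib.Helper73.ZassMain.zass_psl2 hZ ho.symm
    (P : Subgroup G) hFle hFn hFab hreg (by rw [hcq]; exact hD)
  exact ⟨K, iK, iF, by rw [hcq] at hK; omega, hK2, hiso⟩

end Cfsg.Agent.Lib.Helper73.SPO
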