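import Cfsg.Agent.Lib.Helper73.SPO.CNT2
import Cfsg.Agent.Lib.Helper73.SPO.NRNa

/-!
# Ladder SPO (S3421), rung NRN: no normal subgroup is regular on the cosets of `N(P)`.
-/

set_option autoImplicit false

namespace Cfsg.Agent.Lib.Helper73.SPO

variable {G : Type*} [Group G] [Finite G] {p q : ℕ}

theorem no_regular [Fact p.Prime] (H : Hyp G p q) (P : Sylow p G) (E : Subgroup G) (hE : E.Normal)
    (htr : MulAction.IsPretransitive E (G ⧸ Subgroup.normalizer ((P : Subgroup G) : Set G))) :
    ∃ a : G ⧸ Subgroup.normalizer ((P : Subgroup G) : Set G), MulAction.stabilizer E a ≠ ⊥ :=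
  no_regular_of H P (card_quot H P) E hE htr

end Cfsg.Agent.Lib.Helper73.SPO
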