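import Cfsg.Agent.Lib.Helper73.SPO.CN
import Cfsg.Agent.Lib.Helper73.SPO.EXP
import Cfsg.Agent.Lib.Helper74.MaxSolvable

/-!
# Ladder SPO, rung ODD
-/

set_option autoImplicit false

namespace Cfsg.Agent.Lib.Helper73.SPO

variable {G : Type*} [Group G] [Finite G] {p q : ℕ}

open Subgroup

/-- An element killed by two coprime exponents is trivial. -/
theorem odd_eq_one_of_coprime_pow {K : Type*} [Group K] {z : K} {a b : ℕ} (hab : a.Coprime b)
    (ha : z ^ a = 1) (hb : z ^ b = 1) : z = 1 := by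
  have h1 : orderOf z ∣ a := orderOf_dvd_of_pow_eq_one ha
  have h2 : orderOf z ∣ b := orderOf_dvd_of_pow_eq_one hb
  have h3 : orderOf z ∣ 1 := by
    have := Nat.dvd_gcd h1 h2
    rwa [Nat.Coprime.gcd_eq_one hab] at this
  exact orderOf_eq_one_iff.mp (Nat.dvd_one.mp h3)

theorem odd_case (H : Hyp G p q) (M Q : Subgroup G) (hQM : Q ≤ M)
    (hMN : M ≤ Subgroup.normalizer (Q : Set G)) (hQ : IsPGroup p Q) (hQ1 : Q ≠ ⊥)
    (hmax : ∀ Q' : Subgroup G, Q ≤ Q' → Q' ≤ M → M ≤ Subgroup.normalizer (Q' : Set G) →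
      IsPGroup p Q' → Q' = Q)
    (hodd : Odd (Nat.card M)) : ∀ x ∈ M, x ^ p = 1 → x ∈ Q := by
  intro x hxM hxp
  by_contra hxQ
  have : Fact p.Prime := ⟨H.hp⟩
  have hsol : Group.IsSolvable M := solvable_of_odd H M hodd
  have hQn : (Q.subgroupOf M).Normal := (Subgroup.normal_subgroupOf_iff_le_normalizer hQM).2 hMN
  set Q' := Q.subgroupOf M with hQ'
  set x0 : M := ⟨x, hxM⟩ with hx0
  have hx0p : x0 ^ p = 1 := by
    apply Subtype.ext
    simpa using hxp
  have hx0Q : x0 ∉ Q' := fun h => hxQ (Subgroup.mem_subgroupOf.1 h)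
  have : Nontrivial (M ⧸ Q') := by
    refine ⟨⟨(QuotientGroup.mk x0 : M ⧸ Q'), 1, ?_⟩⟩
    intro h
    rw [QuotientGroup.eq_one_iff] at h
    exact hx0Q h
  obtain ⟨r, B, hr, hBn, hB1, hBr, -, -⟩ := Helper74.exists_normal_pGroup_of_isSolvable (M ⧸ Q')
  have : Fact r.Prime := ⟨hr⟩
  set N1 : Subgroup M := B.comap (QuotientGroup.mk' Q') with hN1
  have hN1n : N1.Normal := hBn.comap _
  have hQN1 : Q' ≤ N1 := by
    intro y hy
    rw [hN1, Subgroup.mem_comap]
    have : QuotientGroup.mk' Q' y = 1 := (QuotientGroup.eq_one_iff y).2 hy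
    rw [this]; exact B.one_mem
  obtain ⟨b, hbB, hb1⟩ : ∃ b ∈ B, b ≠ 1 := by
    by_contra hcon
    push Not at hcon
    exact hB1 ((Subgroup.eq_bot_iff_forall _).2 hcon)
  obtain ⟨y, rfl⟩ := QuotientGroup.mk'_surjective Q' b
  have hyN1 : y ∈ N1 := hbB
  by_cases hrp : r = p
  · subst hrp
    have hN1p : IsPGroup r N1 := by
      apply IsPGroup.comap_of_ker_isPGroup hBr
      rw [QuotientGroup.ker_mk']
      exact hQ.comap_subtype
    have hnorm : M ≤ Subgroup.normalizer ((N1.map M.subtype : Subgroup G) : Set G) := by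
      have h1 := Subgroup.le_normalizer_map (H := N1) M.subtype
      rw [Subgroup.normalizer_eq_top] at h1
      intro m hm
      exact h1 ⟨⟨m, hm⟩, Subgroup.mem_top _, rfl⟩
    have heq := hmax (N1.map M.subtype) (by
        intro z hz
        exact ⟨⟨z, hQM hz⟩, hQN1 (Subgroup.mem_subgroupOf.2 hz), rfl⟩)
      (Subgroup.map_subtype_le _) hnorm (hN1p.map _)
    apply hb1
    have : (y : G) ∈ Q := by
      rw [← heq]
      exact ⟨y, hyN1, rfl⟩
    exact (QuotientGroup.eq_one_iff y).2 (Subgroup.mem_subgroupOf.2 this)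
  · have hcop : ∀ k : ℕ, (r ^ k).Coprime p := fun k =>
      ((Nat.coprime_primes hr H.hp).2 hrp).pow_left k
    have hx0N1 : x0 ∉ N1 := by
      intro h
      have h1 : QuotientGroup.mk' Q' x0 ∈ B := h
      obtain ⟨k, hk⟩ := hBr ⟨_, h1⟩
      have hk' : (QuotientGroup.mk' Q' x0) ^ r ^ k = 1 := by
        simpa using congrArg Subtype.val hk
      have h2 : (QuotientGroup.mk' Q' x0) ^ p = 1 := by
        rw [← map_pow, hx0p, map_one]
      have h3 := odd_eq_one_of_coprime_pow (hcop k) hk' h2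
      exact hx0Q ((QuotientGroup.eq_one_iff x0).1 h3)
    have hrN1 : r ∣ Nat.card N1 := by
      obtain ⟨k, hk⟩ := (IsPGroup.iff_orderOf.1 hBr) ⟨_, hbB⟩
      rw [Subgroup.orderOf_mk] at hk
      have hk0 : k ≠ 0 := by
        rintro rfl
        rw [pow_zero, orderOf_eq_one_iff] at hk
        exact hb1 hk
      have h1 : r ∣ orderOf (QuotientGroup.mk' Q' y) := by
        rw [hk]; exact dvd_pow_self r hk0
      have h2 : orderOf (QuotientGroup.mk' Q' y) ∣ orderOf y := orderOf_map_dvd _ y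
      have h3 : orderOf y ∣ Nat.card N1 := by
        have := orderOf_dvd_natCard (⟨y, hyN1⟩ : N1)
        rwa [Subgroup.orderOf_mk] at this
      exact h1.trans (h2.trans h3)
    let Y : Sylow r N1 := default
    have hY1 : (Y : Subgroup N1) ≠ ⊥ := Y.ne_bot_of_dvd_card hrN1
    have hfr := Sylow.normalizer_sup_eq_top Y
    set Y1 : Subgroup M := (Y : Subgroup N1).map N1.subtype with hY1def
    have hx0top : x0 ∈ Subgroup.normalizer (Y1 : Set M) ⊔ N1 := by
      rw [hfr]; exact Subgroup.mem_top _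
    obtain ⟨n, hn, m, hm, hnm⟩ := Subgroup.mem_sup_of_normal_right.1 hx0top
    have hpn : p ∣ orderOf n := by
      have h1 : QuotientGroup.mk' N1 n = QuotientGroup.mk' N1 x0 := by
        have hm1 : QuotientGroup.mk' N1 m = 1 := (QuotientGroup.eq_one_iff m).2 hm
        rw [← hnm, map_mul, hm1, mul_one]
      have h2 : orderOf (QuotientGroup.mk' N1 x0) = p := by
        apply orderOf_eq_prime
        · rw [← map_pow, hx0p, map_one]
        · intro h
          exact hx0N1 ((QuotientGroup.eq_one_iff x0).1 h)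
      rw [← h2, ← h1]
      exact orderOf_map_dvd _ n
    set x' : M := n ^ (orderOf n / p) with hx'
    have hx'o : orderOf x' = p := orderOf_pow_orderOf_div (orderOf_pos n).ne' hpn
    have hx'n : x' ∈ Subgroup.normalizer (Y1 : Set M) := Subgroup.pow_mem _ hn _
    have hY1r : IsPGroup r (Y1.map M.subtype) := (Y.2.map _).map _
    refine no_frob H Q (Y1.map M.subtype) hQ hQ1 ?_ ?_ ?_ (x' : G) ?_ ?_ ?_
    · intro h
      rw [Subgroup.map_eq_bot_iff_of_injective _ M.subtype_injective, hY1def,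
        Subgroup.map_eq_bot_iff_of_injective _ N1.subtype_injective] at h
      exact hY1 h
    · obtain ⟨k, hk⟩ := IsPGroup.iff_card.1 hY1r
      rw [hk]; exact hcop k
    · exact (Subgroup.map_subtype_le _).trans hMN
    · rw [Subgroup.orderOf_coe]; exact hx'o
    · exact hMN x'.2
    · exact Subgroup.le_normalizer_map (H := Y1) M.subtype ⟨x', hx'n, rfl⟩

end Cfsg.Agent.Lib.Helper73.SPO
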