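import Cfsg.Agent.Lib.Helper73.SPO.EVEN
import Cfsg.Agent.Lib.Helper73.SPO.ODD

/-!
# Ladder SPO, rung PCL
-/

set_option autoImplicit false

namespace Cfsg.Agent.Lib.Helper73.SPO

variable {G : Type*} [Group G] [Finite G] {p q : ℕ}

open Subgroup

theorem pclosed (H : Hyp G p q) (D : Subgroup G) (hD : IsPGroup p D) (hD1 : D ≠ ⊥) :
    ∃ R : Subgroup G, IsPGroup p R ∧
      ∀ x ∈ Subgroup.normalizer (D : Set G), x ^ p = 1 → x ∈ R := by
  set M : Subgroup G := Subgroup.normalizer (D : Set G) with hM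
  let S : Set (Subgroup G) :=
    {Q' | D ≤ Q' ∧ Q' ≤ M ∧ M ≤ Subgroup.normalizer (Q' : Set G) ∧ IsPGroup p Q'}
  have hDS : D ∈ S := ⟨le_rfl, Subgroup.le_normalizer, le_rfl, hD⟩
  obtain ⟨Q, hQS, hQmax⟩ := Set.exists_max_image S (fun Q' => Nat.card Q') (Set.toFinite S) ⟨D, hDS⟩
  obtain ⟨hDQ, hQM, hMN, hQ⟩ := hQS
  have hQ1 : Q ≠ ⊥ := by
    intro h
    rw [h, le_bot_iff] at hDQ
    exact hD1 hDQ
  have hmax : ∀ Q' : Subgroup G, Q ≤ Q' → Q' ≤ M → M ≤ Subgroup.normalizer (Q' : Set G) →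
      IsPGroup p Q' → Q' = Q := by
    intro Q' h1 h2 h3 h4
    exact (Subgroup.eq_of_le_of_card_ge h1 (hQmax Q' ⟨hDQ.trans h1, h2, h3, h4⟩)).symm
  refine ⟨Q, hQ, ?_⟩
  rcases Nat.even_or_odd (Nat.card M) with he | ho
  · have : Fact (Nat.Prime 2) := ⟨Nat.prime_two⟩
    obtain ⟨t, ht⟩ := exists_prime_orderOf_dvd_card' (G := M) 2 he.two_dvd
    exact even_case H M Q hQM hMN hQ hQ1 hmax (t : G) t.2 (by rw [Subgroup.orderOf_coe]; exact ht)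
  · exact odd_case H M Q hQM hMN hQ hQ1 hmax ho

end Cfsg.Agent.Lib.Helper73.SPO
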