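import Cfsg.Agent.Lib.Helper73.SPO.PCL
import Cfsg.Agent.Lib.Helper30.Coprime

/-!
# Ladder SPO (S3421), rung TI: the Sylow `p`-subgroups are a TI-set.
-/

set_option autoImplicit false

namespace Cfsg.Agent.Lib.Helper73.SPO

variable {G : Type*} [Group G] [Finite G] {p q : ℕ}

theorem ti_aux [Fact p.Prime] (H : Hyp G p q) : ∀ (n : ℕ) (P₁ P₂ : Sylow p G),
    Nat.card G - Nat.card ((P₁ : Subgroup G) ⊓ (P₂ : Subgroup G) : Subgroup G) = n →
    (P₁ : Subgroup G) ⊓ (P₂ : Subgroup G) ≠ ⊥ → P₁ = P₂ := by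
  intro n
  induction n using Nat.strong_induction_on with
  | _ n ih =>
    intro P₁ P₂ hn h
    by_contra hne
    set D : Subgroup G := (P₁ : Subgroup G) ⊓ (P₂ : Subgroup G) with hD
    have hDp : IsPGroup p D := P₁.2.to_le inf_le_left
    have hlt1 : D < (P₁ : Subgroup G) := by
      refine lt_of_le_of_ne inf_le_left ?_
      intro he
      have hle : (P₁ : Subgroup G) ≤ P₂ := by rw [← he]; exact inf_le_right
      exact hne (Sylow.ext (P₁.3 P₂.2 hle).symm)
    have hlt2 : D < (P₂ : Subgroup G) := by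
      refine lt_of_le_of_ne inf_le_right ?_
      intro he
      have hle : (P₂ : Subgroup G) ≤ P₁ := by rw [← he]; exact inf_le_left
      exact hne (Sylow.ext (P₂.3 P₁.2 hle))
    obtain ⟨x₁, hx₁P, hx₁N, hx₁D⟩ := Helper30.exists_mem_normalizer_not_mem P₁.2 hlt1
    obtain ⟨x₂, hx₂P, hx₂N, hx₂D⟩ := Helper30.exists_mem_normalizer_not_mem P₂.2 hlt2
    obtain ⟨R, hRp, hR⟩ := pclosed H D hDp h
    obtain ⟨P₃, hP₃⟩ := hRp.exists_le_sylow
    have hDR : D ≤ R := fun d hd =>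
      hR d (Subgroup.le_normalizer hd) (H.pow_p_of_mem hDp hd)
    have hx₁R : x₁ ∈ R := hR x₁ hx₁N (H.pow_p_of_mem P₁.2 hx₁P)
    have hx₂R : x₂ ∈ R := hR x₂ hx₂N (H.pow_p_of_mem P₂.2 hx₂P)
    have key : ∀ (P : Sylow p G) (x : G), D ≤ (P : Subgroup G) → x ∈ (P : Subgroup G) → x ∈ R →
        x ∉ D → P₃ = P := by
      intro P x hDP hxP hxR hxD
      have hlt : D < (P₃ : Subgroup G) ⊓ (P : Subgroup G) := by
        refine lt_of_le_of_ne (le_inf (hDR.trans hP₃) hDP) ?_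
        intro he
        apply hxD
        rw [he]
        exact ⟨hP₃ hxR, hxP⟩
      have hc : Nat.card D < Nat.card ((P₃ : Subgroup G) ⊓ (P : Subgroup G) : Subgroup G) :=
        Set.ncard_lt_ncard (s := (D : Set G)) (SetLike.coe_ssubset_coe.mpr hlt) (Set.toFinite _)
      have hle : Nat.card ((P₃ : Subgroup G) ⊓ (P : Subgroup G) : Subgroup G) ≤ Nat.card G :=
        Subgroup.card_le_card_group _
      refine ih _ ?_ P₃ P rfl ?_
      · omega
      · intro hb
        rw [hb] at hlt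
        exact absurd hlt (not_lt_bot)
    have h1 := key P₁ x₁ inf_le_left hx₁P hx₁R hx₁D
    have h2 := key P₂ x₂ inf_le_right hx₂P hx₂R hx₂D
    exact hne (h1.symm.trans h2)

theorem ti [Fact p.Prime] (H : Hyp G p q) (P₁ P₂ : Sylow p G)
    (h : (P₁ : Subgroup G) ⊓ (P₂ : Subgroup G) ≠ ⊥) : P₁ = P₂ :=
  ti_aux H _ P₁ P₂ rfl h

end Cfsg.Agent.Lib.Helper73.SPO
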