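import Cfsg.Agent.Lib.Helper73.SPO.CNT2a
import Cfsg.Agent.Lib.Helper73.SPO.TI

/-!
# Ladder SPO (S3421), rung TP: two-point stabilisers.
-/

set_option autoImplicit false

namespace Cfsg.Agent.Lib.Helper73.SPO

variable {G : Type*} [Group G] [Finite G] {p q : ℕ}

theorem tp_card_quot [Fact p.Prime] (H : Hyp G p q) (P : Sylow p G) :
    Nat.card (G ⧸ Subgroup.normalizer ((P : Subgroup G) : Set G)) = q + 1 :=
  card_quot_of H (fun P₁ P₂ h => ti H P₁ P₂ h) P

theorem mem_sylow_of_pow_p [Fact p.Prime] (P : Sylow p G) {d : G} (hd : d ^ p = 1)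
    (hdN : d ∈ Subgroup.normalizer ((P : Subgroup G) : Set G)) : d ∈ (P : Subgroup G) := by
  have hz : IsPGroup p (Subgroup.zpowers d) := by
    rintro ⟨y, hy⟩
    obtain ⟨k, rfl⟩ := Subgroup.mem_zpowers_iff.mp hy
    refine ⟨1, ?_⟩
    apply Subtype.ext
    show (d ^ k) ^ p ^ 1 = 1
    rw [pow_one, ← zpow_natCast, ← zpow_mul, mul_comm, zpow_mul, zpow_natCast, hd, one_zpow]
  have h1 := hz.inf_normalizer_sylow P
  have h2 : d ∈ Subgroup.zpowers d ⊓ (P : Subgroup G) := by
    rw [← h1]
    exact ⟨Subgroup.mem_zpowers d, hdN⟩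
  exact h2.2

theorem two_point [Fact p.Prime] (H : Hyp G p q) (P : Sylow p G)
    (hreg : ∀ y z : G ⧸ Subgroup.normalizer ((P : Subgroup G) : Set G),
      y ≠ ((1 : G) : G ⧸ Subgroup.normalizer ((P : Subgroup G) : Set G)) →
      z ≠ ((1 : G) : G ⧸ Subgroup.normalizer ((P : Subgroup G) : Set G)) →
      ∃! u : (P : Subgroup G), (u : G) • y = z)
    (o : G ⧸ Subgroup.normalizer ((P : Subgroup G) : Set G))
    (ho : o ≠ ((1 : G) : G ⧸ Subgroup.normalizer ((P : Subgroup G) : Set G))) :
    2 * Nat.card ↥(MulAction.stabilizer G ((1 : G) : G ⧸ Subgroup.normalizer ((P : Subgroup G) : Set G)) ⊓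
      MulAction.stabilizer G o) + 2 = q + 1 ∧
    ∀ d ∈ MulAction.stabilizer G ((1 : G) : G ⧸ Subgroup.normalizer ((P : Subgroup G) : Set G)) ⊓
      MulAction.stabilizer G o, ∀ z : G ⧸ Subgroup.normalizer ((P : Subgroup G) : Set G),
      z ≠ ((1 : G) : G ⧸ Subgroup.normalizer ((P : Subgroup G) : Set G)) → z ≠ o → d • z = z → d = 1 := by
  classical
  have hq5 := H.hq5
  have hst : MulAction.stabilizer G
      ((1 : G) : G ⧸ Subgroup.normalizer ((P : Subgroup G) : Set G)) =
      Subgroup.normalizer ((P : Subgroup G) : Set G) := MulAction.stabilizer_quotient _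
  rw [hst]
  set x : G ⧸ Subgroup.normalizer ((P : Subgroup G) : Set G) :=
    ((1 : G) : G ⧸ Subgroup.normalizer ((P : Subgroup G) : Set G)) with hx
  have hfix : ∀ g : G, g ∈ Subgroup.normalizer ((P : Subgroup G) : Set G) ↔ g • x = x := by
    intro g
    have h : g ∈ MulAction.stabilizer G x ↔ g • x = x := MulAction.mem_stabilizer_iff
    rwa [hst] at h
  set D : Subgroup G := Subgroup.normalizer ((P : Subgroup G) : Set G) ⊓ MulAction.stabilizer G o
    with hD
  have hPD : ∀ u ∈ (P : Subgroup G), u • o = o → u = 1 := by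
    intro u hu huo
    obtain ⟨w, -, hw⟩ := hreg o o ho ho
    have h1 := hw ⟨u, hu⟩ huo
    have h2 := hw 1 (one_smul _ _)
    have := h1.trans h2.symm
    exact congrArg Subtype.val this
  constructor
  · -- counting
    have hcP := card_sylow H P
    have hcq := tp_card_quot H P
    have h1 := Subgroup.card_eq_card_quotient_mul_card_subgroup
      (Subgroup.normalizer ((P : Subgroup G) : Set G))
    rw [hcq] at h1
    let Φ : ↥(P : Subgroup G) × ↥D → ↥(Subgroup.normalizer ((P : Subgroup G) : Set G)) :=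
      fun z => ⟨(z.1 : G) * (z.2 : G),
        Subgroup.mul_mem _ (Subgroup.le_normalizer z.1.2) z.2.2.1⟩
    have hbij : Function.Bijective Φ := by
      constructor
      · rintro ⟨u, d⟩ ⟨u', d'⟩ h
        have h2 : (u : G) * d = u' * d' := congrArg Subtype.val h
        have h3 : (u' : G)⁻¹ * u = d' * (d : G)⁻¹ := by
          calc (u' : G)⁻¹ * u = (u' : G)⁻¹ * (u * d) * (d : G)⁻¹ := by group
            _ = d' * (d : G)⁻¹ := by rw [h2]; group
        have h4 : ((u' : G)⁻¹ * u) • o = o := by
          rw [h3]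
          exact (D.mul_mem d'.2 (D.inv_mem d.2)).2
        have h5 := hPD _ ((P : Subgroup G).mul_mem ((P : Subgroup G).inv_mem u'.2) u.2) h4
        have h6 : (u : G) = u' := (inv_mul_eq_one.mp h5).symm
        have h7 : (d : G) = d' := by
          rw [h6] at h2
          exact mul_left_cancel h2
        exact Prod.ext (Subtype.ext h6) (Subtype.ext h7)
      · rintro ⟨g, hg⟩
        have hgo : g • o ≠ x := by
          intro h
          apply ho
          rw [← (hfix g).mp hg] at h
          exact smul_left_cancel g h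
        obtain ⟨u, hu, -⟩ := hreg o (g • o) ho hgo
        refine ⟨(u, ⟨(u : G)⁻¹ * g, ?_, ?_⟩), ?_⟩
        · exact Subgroup.mul_mem _ (Subgroup.inv_mem _ (Subgroup.le_normalizer u.2)) hg
        · show ((u : G)⁻¹ * g) • o = o
          rw [mul_smul, ← hu, inv_smul_smul]
        · apply Subtype.ext
          show (u : G) * ((u : G)⁻¹ * g) = g
          group
    have h2 : Nat.card ↥(Subgroup.normalizer ((P : Subgroup G) : Set G)) = q * Nat.card D := by
      rw [← Nat.card_congr (Equiv.ofBijective Φ hbij), Nat.card_prod, hcP]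
    have h3 := H.card
    rw [h1, h2] at h3
    have h4 : q * (q + 1) * (2 * Nat.card D) = q * (q + 1) * (q - 1) := by
      calc q * (q + 1) * (2 * Nat.card D) = 2 * ((q + 1) * (q * Nat.card D)) := by ring
        _ = q * (q - 1) * (q + 1) := h3
        _ = q * (q + 1) * (q - 1) := by ring
    have h5 := Nat.eq_of_mul_eq_mul_left (by positivity) h4
    omega
  · intro d hd z hzx hzo hdz
    obtain ⟨u, hu, huniq⟩ := hreg o z ho hzx
    have hu' : (u : G) • o = z := hu
    have hu1 : (u : G) ≠ 1 := by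
      intro h
      rw [h, one_smul] at hu'
      exact hzo hu'.symm
    have hdo : d • o = o := hd.2
    have hdo' : d⁻¹ • o = o := by
      conv_lhs => rw [← hdo]
      rw [inv_smul_smul]
    have hconj : d * u * d⁻¹ ∈ (P : Subgroup G) :=
      (Subgroup.mem_normalizer_iff.mp hd.1 u).mp u.2
    have h1 := huniq ⟨d * u * d⁻¹, hconj⟩ (by
      show (d * u * d⁻¹) • o = z
      rw [mul_smul, mul_smul, hdo', hu', hdz])
    have h2 : d * u * d⁻¹ = u := congrArg Subtype.val h1
    have hcomm : Commute (u : G) d := by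
      show (u : G) * d = d * u
      calc (u : G) * d = (d * u * d⁻¹) * d := by rw [h2]
        _ = d * u := by group
    have hup : (u : G) ^ p = 1 := H.pow_p_of_mem P.2 u.2
    have huo : orderOf (u : G) = p := orderOf_eq_prime hup hu1
    have hdp : d ^ p = 1 := H.cpp huo hcomm
    exact hPD d (mem_sylow_of_pow_p P hdp hd.1) hdo

end Cfsg.Agent.Lib.Helper73.SPO
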